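import Mathlib
import Groth.Prelude.Def_SGA4c

/-!
# Compact opens are quasi-compact objects of the site of opens
-/

set_option autoImplicit false

universe u

open CategoryTheory CategoryTheory.Limits TopologicalSpace

namespace Groth.Agent.QcSum

theorem isQCSite_of_isCompact {X : TopCat.{u}} {U : Opens X} (hU : IsCompact (U : Set X)) :
    ToposFin.IsQCSite (Opens.grothendieckTopology X) U := by
  intro S hS
  classical
  let V : (Σ V : Opens X, {g : V ⟶ U // S g}) → Set X := fun p => (p.1 : Set X)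
  obtain ⟨t, ht⟩ := hU.elim_finite_subcover V (fun p => p.1.isOpen) (fun x hx => by
    obtain ⟨W, g, hg, hxW⟩ := hS x hx
    exact Set.mem_iUnion.2 ⟨⟨W, g, hg⟩, hxW⟩)
  refine ⟨t.card, fun k => (t.equivFin.symm k).1.1, fun k => (t.equivFin.symm k).1.2.1,
    fun k => (t.equivFin.symm k).1.2.2, fun x hx => ?_⟩
  obtain ⟨p, hp, hxp⟩ := Set.mem_iUnion₂.1 (ht hx)
  obtain ⟨k, hk⟩ := t.equivFin.symm.surjective ⟨p, hp⟩
  refine ⟨_, _, Sieve.ofArrows_mk _ _ k, ?_⟩
  show x ∈ ((t.equivFin.symm k).1.1 : Set X)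
  rw [hk]
  exact hxp

end Groth.Agent.QcSum
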