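import Groth.Agent.QcSum.Sections
import Groth.Agent.SiteCoh.ColimHelp
import Groth.Agent.ModShf.ToSheaf
import Groth.Agent.ModFlat.Free
import Groth.Prelude.Def_ModSite

/-!
# Sections of direct sums of modules over quasi-compact objects
-/

set_option autoImplicit false

universe u

open CategoryTheory CategoryTheory.Limits Opposite

namespace Groth.Agent.QcSum

variable {C : Type u} [SmallCategory C] {J : GrothendieckTopology C} (O : Sheaf J CommRingCat.{u}) {W : C}

theorem isQCSite_of_isQcObject (hW : CohCx.IsQcObject ((presheafToSheaf J (Type u)).obj (yoneda.obj W))) :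
    ToposFin.IsQCSite J W :=
  (TopFin.Site.isQC_eps_iff J W).2 (SiteCoh.ColimHelp.isQC_of_isQcObject hW)

theorem preservesColimitsOfShape_sections (hW : ToposFin.IsQCSite J W) (ι : Type u) :
    PreservesColimitsOfShape (Discrete ι)
      (SheafOfModules.toSheaf (ModSite.ringSh O) ⋙ (sheafSections J AddCommGrpCat.{u}).obj (op W)) := by
  have := Groth.Agent.ModShf.toSheafPreservesColimitsOfShape (ModSite.ringSh O) (Discrete ι)
  have h2 : PreservesColimitsOfShape (Discrete ι) ((sheafSections J AddCommGrpCat.{u}).obj (op W)) :=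
    ⟨fun {K} => by
      have hK : ∀ F : ι → Sheaf J AddCommGrpCat.{u}, PreservesColimit (Discrete.functor F)
          ((sheafSections J AddCommGrpCat.{u}).obj (op W)) := fun F =>
        ⟨fun {c} hc => isColimit_sections hc hW⟩
      haveI := hK (fun i => K.obj ⟨i⟩)
      exact preservesColimit_of_iso_diagram _ Discrete.natIsoFunctor.symm⟩
  infer_instance

/-- Maps out of `freeOn` are sections, additively and naturally. -/
noncomputable def coyonedaFreeOnIso (U : C) :
    preadditiveCoyoneda.obj (op (ModSite.freeOn O U)) ≅
      SheafOfModules.toSheaf (ModSite.ringSh O) ⋙ (sheafSections J AddCommGrpCat.{u}).obj (op U) :=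
  NatIso.ofComponents (fun M => AddEquiv.toAddCommGrpIso
    { toEquiv := Groth.Agent.ModFlat.freeOnEquiv O U M
      map_add' := fun a b => by
        have key : ∀ φ : ModSite.freeOn O U ⟶ M, Groth.Agent.ModFlat.freeOnEquiv O U M φ =
            φ.val.app (op U) (Groth.Agent.ModFlat.freeOnEquiv O U _ (𝟙 _)) := fun φ => by
          conv_lhs => rw [← Category.id_comp φ]
          exact Groth.Agent.ModFlat.freeOnEquiv_comp O U _ φ
        show Groth.Agent.ModFlat.freeOnEquiv O U M (a + b) =
          Groth.Agent.ModFlat.freeOnEquiv O U M a + Groth.Agent.ModFlat.freeOnEquiv O U M b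
        rw [key, key a, key b]
        rfl })
    (fun {M N} f => AddCommGrpCat.hom_ext (AddMonoidHom.ext fun (φ : ModSite.freeOn O U ⟶ M) =>
      Groth.Agent.ModFlat.freeOnEquiv_comp O U φ f))

end Groth.Agent.QcSum
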