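import Mathlib
import Groth.Prelude.Def_SGA4c

/-!
# Sections of direct sums of abelian sheaves over quasi-compact objects of a site
-/

set_option autoImplicit false

universe u

open CategoryTheory CategoryTheory.Limits Opposite

namespace Groth.Agent.QcSum

variable {C : Type u} [SmallCategory C] {J : GrothendieckTopology C} {ι : Type u}
  {F : ι → Sheaf J AddCommGrpCat.{u}} {c : Cofan F} (hc : IsColimit c)

open Classical in
/-- The projection of a coproduct onto a summand. -/
noncomputable def proj (i : ι) : c.pt ⟶ F i :=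
  Cofan.IsColimit.desc hc fun j => if h : j = i then eqToHom (congrArg F h) else 0

theorem inj_proj (i : ι) : c.inj i ≫ proj hc i = 𝟙 _ := by
  rw [proj, Cofan.IsColimit.fac, dif_pos rfl]; rfl

theorem inj_proj_ne {i j : ι} (h : j ≠ i) : c.inj j ≫ proj hc i = 0 := by
  rw [proj, Cofan.IsColimit.fac, dif_neg h]

theorem proj_inj_apply (i : ι) (W : C) (x : (F i).obj.obj (op W)) :
    (proj hc i).hom.app (op W) ((c.inj i).hom.app (op W) x) = x :=
  ConcreteCategory.congr_hom (congrArg (fun f => f.hom.app (op W)) (inj_proj hc i)) x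

theorem proj_inj_apply_ne {i j : ι} (h : j ≠ i) (W : C) (x : (F j).obj.obj (op W)) :
    (proj hc i).hom.app (op W) ((c.inj j).hom.app (op W) x) = 0 :=
  ConcreteCategory.congr_hom (congrArg (fun f => f.hom.app (op W)) (inj_proj_ne hc h)) x

/-- The part of a section lying in finitely many summands. -/
noncomputable def part (S : Finset ι) (W : C) : c.pt.obj.obj (op W) →+ c.pt.obj.obj (op W) :=
  ∑ i ∈ S, (((c.inj i).hom.app (op W)).hom.comp ((proj hc i).hom.app (op W)).hom)

theorem part_apply (S : Finset ι) (W : C) (s : c.pt.obj.obj (op W)) :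
    part hc S W s = ∑ i ∈ S, (c.inj i).hom.app (op W) ((proj hc i).hom.app (op W) s) := by
  simp [part]

theorem part_naturality (S : Finset ι) {V W : C} (g : V ⟶ W) (s : c.pt.obj.obj (op W)) :
    c.pt.obj.map g.op (part hc S W s) = part hc S V (c.pt.obj.map g.op s) := by
  rw [part_apply, part_apply, map_sum]
  exact Finset.sum_congr rfl fun i _ => by
    rw [← NatTrans.naturality_apply, ← NatTrans.naturality_apply]

theorem proj_eq_zero_of_part {S : Finset ι} {W : C} {s : c.pt.obj.obj (op W)}
    (h : part hc S W s = s) {i : ι} (hi : i ∉ S) : (proj hc i).hom.app (op W) s = 0 := by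
  rw [← h, part_apply, map_sum]
  exact Finset.sum_eq_zero fun j hj => proj_inj_apply_ne hc (ne_of_mem_of_not_mem hj hi) W _

theorem part_mono {S T : Finset ι} (hST : S ⊆ T) {W : C} {s : c.pt.obj.obj (op W)}
    (h : part hc S W s = s) : part hc T W s = s := by
  refine Eq.trans ?_ h
  rw [part_apply, part_apply]
  refine (Finset.sum_subset hST fun i _ hi => ?_).symm
  rw [proj_eq_zero_of_part hc h hi, map_zero]

variable (c) in
/-- The map from the presheaf direct sum. -/
noncomputable def fromPre : (∐ fun i => (F i).obj) ⟶ c.pt.obj :=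
  Sigma.desc fun i => (c.inj i).hom

include hc in
/-- Sections of the direct sum are locally sections of the presheaf direct sum. -/
theorem isLocallySurjective_fromPre : Presheaf.IsLocallySurjective J (fromPre c) := by
  let adj := sheafificationAdjunction J AddCommGrpCat.{u}
  let k' : (presheafToSheaf J AddCommGrpCat.{u}).obj (∐ fun i => (F i).obj) ⟶ c.pt :=
    (adj.homEquiv _ _).symm (fromPre c)
  have hfac : toSheafify J (∐ fun i => (F i).obj) ≫ k'.hom = fromPre c := by
    have := (adj.homEquiv _ _).apply_symm_apply (fromPre c)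
    rwa [Adjunction.homEquiv_unit] at this
  haveI : Epi k' := ⟨fun {G} u v huv => Cofan.IsColimit.hom_ext hc _ _ fun i => by
    refine Sheaf.hom_ext ?_
    have h : Sigma.ι (fun i => (F i).obj) i ≫ toSheafify J _ ≫ (k' ≫ u).hom =
        Sigma.ι (fun i => (F i).obj) i ≫ toSheafify J _ ≫ (k' ≫ v).hom := by rw [huv]
    have hι : Sigma.ι (fun i => (F i).obj) i ≫ fromPre c = (c.inj i).hom := Sigma.ι_desc _ _
    simp only [ObjectProperty.FullSubcategory.comp_hom] at h ⊢
    simpa only [reassoc_of% hfac, reassoc_of% hι] using h⟩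
  haveI : Sheaf.IsLocallySurjective k' := (Sheaf.isLocallySurjective_iff_epi' AddCommGrpCat.{u} k').2 inferInstance
  haveI : Presheaf.IsLocallySurjective J k'.hom := this
  rw [← hfac]
  infer_instance

/-- Sections of the presheaf direct sum are finite sums. -/
theorem exists_part_fromPre {W : C} (x : (∐ fun i => (F i).obj).obj (op W)) :
    ∃ S : Finset ι, part hc S W ((fromPre c).app (op W) x) = (fromPre c).app (op W) x := by
  classical
  let K : AddSubgroup ((∐ fun i => (F i).obj).obj (op W)) :=
    { carrier := {x | ∃ S : Finset ι, part hc S W ((fromPre c).app (op W) x) = (fromPre c).app (op W) x}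
      zero_mem' := ⟨∅, by simp⟩
      add_mem' := fun {a b} ⟨S, hS⟩ ⟨T, hT⟩ => ⟨S ∪ T, by
        rw [map_add, map_add, part_mono hc Finset.subset_union_left hS,
          part_mono hc Finset.subset_union_right hT]⟩
      neg_mem' := fun {a} ⟨S, hS⟩ => ⟨S, by rw [map_neg, map_neg, hS]⟩ }
  suffices h : K = ⊤ by
    have := h ▸ AddSubgroup.mem_top x
    exact this
  have hι : ∀ i (y : (F i).obj.obj (op W)), (Sigma.ι (fun i => (F i).obj) i).app (op W) y ∈ K := fun i y => by
    have e : (fromPre c).app (op W) ((Sigma.ι (fun i => (F i).obj) i).app (op W) y) =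
        (c.inj i).hom.app (op W) y :=
      ConcreteCategory.congr_hom (congrArg (fun f => f.app (op W)) (Sigma.ι_desc (fun i => (c.inj i).hom) i)) y
    exact ⟨{i}, by rw [e, part_apply, Finset.sum_singleton, proj_inj_apply]⟩
  let q : (∐ fun i => (F i).obj).obj (op W) ⟶ AddCommGrpCat.of ((∐ fun i => (F i).obj).obj (op W) ⧸ K) :=
    AddCommGrpCat.ofHom (QuotientAddGroup.mk' K)
  have hq : q = 0 :=
    (isColimitOfPreserves ((evaluation Cᵒᵖ AddCommGrpCat.{u}).obj (op W))
      (coproductIsCoproduct fun i => (F i).obj)).hom_ext fun ⟨i⟩ => by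
        rw [comp_zero]
        exact AddCommGrpCat.hom_ext (AddMonoidHom.ext fun y => (QuotientAddGroup.eq_zero_iff _).2 (hι i y))
  exact eq_top_iff.2 fun y _ => (QuotientAddGroup.eq_zero_iff y).1
    (ConcreteCategory.congr_hom hq y)

variable {W : C} (hW : ToposFin.IsQCSite J W)

include hW in
/-- A section over a quasi-compact object lies in finitely many summands. -/
theorem exists_part_eq (s : c.pt.obj.obj (op W)) : ∃ S : Finset ι, part hc S W s = s := by
  classical
  haveI := isLocallySurjective_fromPre hc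
  obtain ⟨n, V, g, hg, hcov⟩ := hW _ (Presheaf.imageSieve_mem J (fromPre c) s)
  choose x hx using hg
  choose S hS using fun k => exists_part_fromPre hc (x k)
  refine ⟨Finset.univ.biUnion S, ?_⟩
  have hP := ((isSheaf_iff_isSheaf_of_type _ _).1
    (Presheaf.isSheaf_comp_of_isSheaf J c.pt.obj (forget AddCommGrpCat.{u}) c.pt.property)) _ hcov
  refine hP.isSeparatedFor.ext fun Z f hf => ?_
  obtain ⟨Y, a, b, ⟨k⟩, rfl⟩ := hf
  change c.pt.obj.map (a ≫ g k).op (part hc _ W s) = c.pt.obj.map (a ≫ g k).op s
  have e : part hc (Finset.univ.biUnion S) (V k) (c.pt.obj.map (g k).op s) = c.pt.obj.map (g k).op s := by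
    rw [← hx k]
    exact part_mono hc (Finset.subset_biUnion_of_mem S (Finset.mem_univ k)) (hS k)
  rw [op_comp, Functor.map_comp, ConcreteCategory.comp_apply, ConcreteCategory.comp_apply,
    part_naturality hc _ (g k), e]

include hW in
theorem finite_support (s : c.pt.obj.obj (op W)) :
    {i | (proj hc i).hom.app (op W) s ≠ 0}.Finite := by
  obtain ⟨S, hS⟩ := exists_part_eq hc hW s
  exact S.finite_toSet.subset fun i hi => by_contra fun h => hi (proj_eq_zero_of_part hc hS h)

include hc hW in
/-- Sections over a quasi-compact object commute with direct sums. -/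
theorem isColimit_sections :
    Nonempty (IsColimit (((sheafSections J AddCommGrpCat.{u}).obj (op W)).mapCocone c)) := by
  refine ⟨?_⟩
  let tm : ∀ (d : Cocone (Discrete.functor F ⋙ (sheafSections J AddCommGrpCat.{u}).obj (op W))),
      ι → (c.pt.obj.obj (op W) →+ d.pt) := fun d i =>
    ((proj hc i).hom.app (op W) ≫ d.ι.app ⟨i⟩).hom
  have tm0 : ∀ d i s, (proj hc i).hom.app (op W) s = 0 → tm d i s = 0 := fun d i s h =>
    (congrArg (d.ι.app ⟨i⟩).hom h).trans (map_zero (d.ι.app ⟨i⟩).hom)
  have supD : ∀ d s, (Function.support fun i => tm d i s).Finite := fun d s =>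
    (finite_support hc hW s).subset fun i hi h0 => hi (tm0 d i s h0)
  refine
    { desc := fun d => AddCommGrpCat.ofHom (AddMonoidHom.mk' (fun s => ∑ᶠ i, tm d i s) fun a b => ?_)
      fac := fun d => fun ⟨j⟩ => ?_
      uniq := fun d m hm => ?_ }
  · rw [← finsum_add_distrib (supD d a) (supD d b)]
    exact finsum_congr fun i => map_add (tm d i) a b
  · refine AddCommGrpCat.hom_ext (AddMonoidHom.ext fun (x : (F j).obj.obj (op W)) => ?_)
    show ∑ᶠ i, tm d i ((c.inj j).hom.app (op W) x) = _
    rw [finsum_eq_single _ j fun i hi => tm0 d i _ (proj_inj_apply_ne hc (Ne.symm hi) W x)]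
    exact congrArg (d.ι.app ⟨j⟩).hom (proj_inj_apply hc j W x)
  · refine AddCommGrpCat.hom_ext (AddMonoidHom.ext fun (s : c.pt.obj.obj (op W)) => ?_)
    show m.hom s = ∑ᶠ i, tm d i s
    obtain ⟨S, hS⟩ := exists_part_eq hc hW s
    rw [finsum_eq_sum_of_support_subset (s := S) _ fun i hi => by_contra fun h =>
      hi (tm0 d i s (proj_eq_zero_of_part hc hS h))]
    conv_lhs => rw [← hS, part_apply]
    refine (map_sum m.hom _ _).trans (Finset.sum_congr rfl fun i _ => ?_)
    exact ConcreteCategory.congr_hom (hm ⟨i⟩) ((proj hc i).hom.app (op W) s)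

end Groth.Agent.QcSum
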