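import Groth.Agent.QcSum.Mod
import Groth.Agent.PullFlat.Exact
import Mathlib.CategoryTheory.Abelian.Refinements

/-!
# Modules presented by finitely many quasi-compact objects
-/

set_option autoImplicit false
set_option linter.style.haveILetI false

universe u

open CategoryTheory CategoryTheory.Limits Opposite ModSite

namespace Groth.Agent.QcSum

open Groth.Agent.ModFlat (rs map_val_comp freeOnEquiv freeOnEquiv_comp)
open Groth.Agent.PullFlat (appS appS_res appS_comp rs_id exists_local_lift)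

variable {C : Type u} [SmallCategory C] {J : GrothendieckTopology C} (O : Sheaf J CommRingCat.{u})
  (B : Set C)

/-- A finite sum of free modules on objects. -/
noncomputable abbrev fs {κ : Type} (V : κ → C) : Mod O := ∐ fun k => freeOn O (V k)

/-- Every object is covered by members of `B`. -/
def Cov (J : GrothendieckTopology C) (B : Set C) : Prop :=
  ∀ X : C, ∃ (κ : Type u) (Y : κ → C) (g : ∀ k, Y k ⟶ X), Sieve.ofArrows Y g ∈ J X ∧ ∀ k, Y k ∈ B

/-- Finitely generated by members of `B`. -/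
def FG (K : Mod O) : Prop :=
  ∃ (κ : Type) (_ : Finite κ) (V : κ → C) (e : fs O V ⟶ K), Epi e ∧ ∀ k, V k ∈ B

/-- Finitely presented by members of `B`. -/
def Pres (M : Mod O) : Prop :=
  ∃ (κ : Type) (_ : Finite κ) (V : κ → C) (e : fs O V ⟶ M), Epi e ∧ (∀ k, V k ∈ B) ∧ FG O B (kernel e)

variable {O B}

/-- The map of free modules along a morphism. -/
noncomputable def freeMap {Y U : C} (h : Y ⟶ U) : freeOn O Y ⟶ freeOn O U :=
  (freeOnEquiv O Y _).symm (rs (freeOn O U) h (freeOnEquiv O U _ (𝟙 _)))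

theorem freeOnEquiv_freeMap {Y U : C} (h : Y ⟶ U) {M : Mod O} (φ : freeOn O U ⟶ M) :
    freeOnEquiv O Y M (freeMap h ≫ φ) = rs M h (freeOnEquiv O U M φ) := by
  rw [freeOnEquiv_comp, freeMap, Equiv.apply_symm_apply]
  refine (appS_res φ h _).trans ?_
  rw [show appS φ U (freeOnEquiv O U _ (𝟙 _)) = freeOnEquiv O U M φ from
    (freeOnEquiv_comp O U (𝟙 _) φ).symm.trans (by rw [Category.id_comp])]

theorem sheafSep {M : Mod O} {U : C} {S : Sieve U} (hS : S ∈ J U) {x y : sect M U}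
    (h : ∀ ⦃Y : C⦄ (g : Y ⟶ U), S g → rs M g x = rs M g y) : x = y :=
  ((isSheaf_iff_isSheaf_of_type _ _).1
    (Presheaf.isSheaf_comp_of_isSheaf J _ (forget AddCommGrpCat.{u}) M.isSheaf) S hS).isSeparatedFor.ext h

/-- A covering by arrows determines maps out of a free module. -/
theorem freeMap_jointly_epi {U : C} {ι : Type*} {Y : ι → C} {h : ∀ i, Y i ⟶ U}
    (hc : Sieve.ofArrows Y h ∈ J U) {M : Mod O} {φ ψ : freeOn O U ⟶ M}
    (e : ∀ i, freeMap (h i) ≫ φ = freeMap (h i) ≫ ψ) : φ = ψ := by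
  refine (freeOnEquiv O U M).injective (sheafSep hc fun Z g hg => ?_)
  obtain ⟨W, a, b, ⟨i⟩, rfl⟩ := hg
  rw [map_val_comp, map_val_comp]
  exact congrArg (rs M a) (by rw [← freeOnEquiv_freeMap, ← freeOnEquiv_freeMap, e])

theorem epi_desc_of_two {A A' K : Mod O} (f : A ⟶ K) (g : A' ⟶ K)
    (h : ∀ ⦃T : Mod O⦄ (y : T ⟶ K), ∃ (T' : Mod O) (π : T' ⟶ T) (_ : Epi π) (a : T' ⟶ A) (b : T' ⟶ A'),
      π ≫ y = a ≫ f + b ≫ g) :
    ∀ ⦃G : Mod O⦄ (u v : K ⟶ G), f ≫ u = f ≫ v → g ≫ u = g ≫ v → u = v := fun G u v hu hv => by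
  obtain ⟨T', π, hπ, a, b, e⟩ := h (𝟙 K)
  rw [Category.comp_id] at e
  rw [← cancel_epi π, e, Preadditive.add_comp, Preadditive.add_comp, Category.assoc, Category.assoc,
    hu, hv, Category.assoc, Category.assoc]

theorem fg_of_two {A A' K : Mod O} (hA : FG O B A) (hA' : FG O B A') (f : A ⟶ K) (g : A' ⟶ K)
    (h : ∀ ⦃T : Mod O⦄ (y : T ⟶ K), ∃ (T' : Mod O) (π : T' ⟶ T) (_ : Epi π) (a : T' ⟶ A) (b : T' ⟶ A'),
      π ≫ y = a ≫ f + b ≫ g) : FG O B K := by
  obtain ⟨κ, _, V, e, _, hV⟩ := hA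
  obtain ⟨κ', _, V', e', _, hV'⟩ := hA'
  refine ⟨κ ⊕ κ', inferInstance, Sum.elim V V', Sigma.desc (fun s => match s with
      | Sum.inl k => Sigma.ι (fun k => freeOn O (V k)) k ≫ e ≫ f
      | Sum.inr k => Sigma.ι (fun k => freeOn O (V' k)) k ≫ e' ≫ g), ⟨fun {G} u v huv => ?_⟩,
    fun k => by cases k <;> simp [hV, hV']⟩
  refine epi_desc_of_two f g h u v ?_ ?_
  · rw [← cancel_epi e]
    refine Sigma.hom_ext _ _ fun k => ?_
    have := congrArg (fun t => Sigma.ι (fun s => freeOn O (Sum.elim V V' s)) (Sum.inl k) ≫ t) huv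
    simp only [← Category.assoc, Sigma.ι_desc] at this
    simp only [← Category.assoc]
    exact this
  · rw [← cancel_epi e']
    refine Sigma.hom_ext _ _ fun k => ?_
    have := congrArg (fun t => Sigma.ι (fun s => freeOn O (Sum.elim V V' s)) (Sum.inr k) ≫ t) huv
    simp only [← Category.assoc, Sigma.ι_desc] at this
    simp only [← Category.assoc]
    exact this

theorem fg_of_epi {A K : Mod O} (hA : FG O B A) (f : A ⟶ K) [Epi f] : FG O B K := by
  obtain ⟨κ, hκ, V, e, he, hV⟩ := hA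
  exact ⟨κ, hκ, V, e ≫ f, epi_comp _ _, hV⟩

theorem fg_fs {κ : Type} [Finite κ] {V : κ → C} (hV : ∀ k, V k ∈ B) : FG O B (fs O V) :=
  ⟨κ, inferInstance, V, 𝟙 _, inferInstance, hV⟩

theorem fg_zero {K : Mod O} (hK : IsZero K) : FG O B K :=
  ⟨Empty, inferInstance, fun e => e.elim, 0, ⟨fun {G} u v _ => hK.eq_of_src u v⟩, fun e => e.elim⟩

variable (hB₁ : Cov J B) (hB₂ : ∀ U ∈ B, ToposFin.IsQCSite J U)

include hB₁ in
/-- Coverings of quasi-compact objects are refined by finitely many members of `B`. -/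
theorem exists_refine {U : C} (hU : ToposFin.IsQCSite J U) {S : Sieve U} (hS : S ∈ J U) :
    ∃ (n : ℕ) (Y : Fin n → C) (h : ∀ k, Y k ⟶ U), (∀ k, Y k ∈ B) ∧ (∀ k, S (h k)) ∧
      Sieve.ofArrows Y h ∈ J U := by
  let R : Sieve U :=
    { arrows := fun Z g => ∃ (Y : C) (a : Z ⟶ Y) (h : Y ⟶ U), Y ∈ B ∧ S h ∧ a ≫ h = g
      downward_closed := by
        rintro Z Z' g ⟨Y, a, h, hY, hh, rfl⟩ b
        exact ⟨Y, b ≫ a, h, hY, hh, Category.assoc _ _ _⟩ }
  have hR : R ∈ J U := J.transitive hS R fun Z f hf => by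
    obtain ⟨κ, Yf, g, hg, hY⟩ := hB₁ Z
    refine J.superset_covering ?_ hg
    rintro W b ⟨W', a, g', ⟨k⟩, rfl⟩
    exact ⟨Yf k, a, g k ≫ f, hY k, S.downward_closed hf _, (Category.assoc _ _ _).symm⟩
  obtain ⟨n, V, g, hg, hcov⟩ := hU R hR
  choose Yf a h hY hh ha using hg
  refine ⟨n, Yf, h, hY, hh, J.superset_covering ?_ hcov⟩
  rintro W b ⟨W', c, g', ⟨k⟩, rfl⟩
  exact ⟨Yf k, c ≫ a k, h k, ⟨k⟩, by rw [Category.assoc, ha]⟩

/-- A refinement of a finite sum of free modules. -/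
structure Refn {κ : Type} (V : κ → C) where
  κ' : Type
  fin : Finite κ'
  V' : κ' → C
  idx : κ' → κ
  h : ∀ k, V' k ⟶ V (idx k)
  mem : ∀ k, V' k ∈ B
  cov : ∀ i, Sieve.ofArrows (fun k : {k // idx k = i} => V' k.1)
    (fun k => h k.1 ≫ eqToHom (congrArg V k.2)) ∈ J (V i)

attribute [instance] Refn.fin

variable {κ : Type} {V : κ → C}

/-- The projection of a refinement. -/
noncomputable def Refn.π (R : Refn (J := J) (B := B) V) : fs O R.V' ⟶ fs O V :=
  Sigma.desc fun k => freeMap (R.h k) ≫ Sigma.ι (fun i => freeOn O (V i)) (R.idx k)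

theorem Refn.epi_π (R : Refn (J := J) (B := B) V) : Epi (R.π (O := O)) := ⟨fun {G} u v e => by
  refine Sigma.hom_ext _ _ fun i => freeMap_jointly_epi (R.cov i) fun ⟨k, hk⟩ => ?_
  subst hk
  have := congrArg (fun t => Sigma.ι (fun k => freeOn O (R.V' k)) k ≫ t) e
  simpa [Refn.π] using this⟩

include hB₁ hB₂ in
/-- Maps lift along epimorphisms after refinement. -/
theorem exists_lift [Finite κ] (hV : ∀ k, V k ∈ B) {P G : Mod O} (π : P ⟶ G) [Epi π] (f : fs O V ⟶ G) :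
    ∃ (R : Refn (J := J) (B := B) V) (l : fs O R.V' ⟶ P), l ≫ π = R.π ≫ f := by
  have key : ∀ i, ∃ (n : ℕ) (Y : Fin n → C) (h : ∀ k, Y k ⟶ V i), (∀ k, Y k ∈ B) ∧
      (∀ k, ∃ y : sect P (Y k), appS π (Y k) y =
        rs G (h k) (freeOnEquiv O (V i) G (Sigma.ι (fun i => freeOn O (V i)) i ≫ f))) ∧
      Sieve.ofArrows Y h ∈ J (V i) := fun i => by
    obtain ⟨S, hS, hS'⟩ := exists_local_lift π (freeOnEquiv O (V i) G (Sigma.ι (fun i => freeOn O (V i)) i ≫ f))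
    obtain ⟨n, Y, h, hY, hh, hc⟩ := exists_refine hB₁ (hB₂ _ (hV i)) hS
    exact ⟨n, Y, h, hY, fun k => hS' _ (hh k), hc⟩
  choose n Yf h hY hy hc using key
  choose y hy using hy
  refine ⟨⟨Σ i, Fin (n i), inferInstance, fun p => Yf p.1 p.2, Sigma.fst, fun p => h p.1 p.2,
    fun p => hY p.1 p.2, fun i => J.superset_covering ?_ (hc i)⟩,
    Sigma.desc fun p => (freeOnEquiv O _ P).symm (y p.1 p.2), ?_⟩
  · rintro W b ⟨W', a, g', ⟨k⟩, rfl⟩
    exact ⟨Yf i k, a, h i k ≫ 𝟙 _, ⟨(⟨⟨i, k⟩, rfl⟩ : {p : Σ i, Fin (n i) // p.1 = i})⟩, by simp⟩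
  · refine Sigma.hom_ext _ _ fun p => ?_
    simp only [Refn.π, Sigma.ι_desc_assoc, Category.assoc]
    refine (freeOnEquiv O _ G).injective ?_
    rw [freeOnEquiv_comp, Equiv.apply_symm_apply, freeOnEquiv_freeMap]
    exact hy p.1 p.2

include hB₁ hB₂ in
/-- An extension of finitely generated modules is finitely generated. -/
theorem fg_extension {K₁ K K₃ : Mod O} (f : K₁ ⟶ K) (g : K ⟶ K₃) (w : f ≫ g = 0) [Epi g]
    (hex : (ShortComplex.mk f g w).Exact) (h₁ : FG O B K₁) (h₃ : FG O B K₃) : FG O B K := by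
  obtain ⟨κ, _, V, e, _, hV⟩ := h₃
  obtain ⟨R, l, hl⟩ := exists_lift hB₁ hB₂ hV g e
  haveI := R.epi_π (O := O)
  refine fg_of_two h₁ (fg_fs R.mem) f l fun T y => ?_
  obtain ⟨T', π, _, z, hz⟩ := surjective_up_to_refinements_of_epi (R.π ≫ e) (y ≫ g)
  obtain ⟨T'', π', _, a, ha⟩ := hex.exact_up_to_refinements (π ≫ y - z ≫ l) (by
    show (π ≫ y - z ≫ l) ≫ g = 0
    rw [Preadditive.sub_comp, Category.assoc, Category.assoc, hz, hl, sub_self])
  refine ⟨T'', π' ≫ π, epi_comp _ _, a, π' ≫ z, ?_⟩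
  have ha' : a ≫ f = π' ≫ (π ≫ y - z ≫ l) := ha.symm
  rw [ha', Preadditive.comp_sub, Category.assoc, Category.assoc, sub_add_cancel]

end Groth.Agent.QcSum
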