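import Groth.Agent.QcSum.Pres

/-!
# Closure properties of finitely presented modules
-/

set_option autoImplicit false
set_option linter.style.haveILetI false

universe u

open CategoryTheory CategoryTheory.Limits Opposite ModSite

namespace Groth.Agent.QcSum

open Groth.Agent.ModFlat (rs map_val_comp freeOnEquiv freeOnEquiv_comp)

variable {C : Type u} [SmallCategory C] {J : GrothendieckTopology C} {O : Sheaf J CommRingCat.{u}}
  {B : Set C}

/-- The kernel of the second map of an exact sequence receives the first one epimorphically. -/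
theorem fg_kernel_of_exact {X Y Z : Mod O} (a : X ⟶ Y) (b : Y ⟶ Z) (w : a ≫ b = 0)
    (hex : (ShortComplex.mk a b w).Exact) (hX : FG O B X) : FG O B (kernel b) := by
  haveI : Epi (kernel.lift b a w) := by
    rw [epi_iff_surjective_up_to_refinements]
    intro A y
    obtain ⟨A', π, hπ, x, hx⟩ := hex.exact_up_to_refinements (y ≫ kernel.ι b) (by
      show (y ≫ kernel.ι b) ≫ b = 0
      rw [Category.assoc, kernel.condition, comp_zero])
    exact ⟨A', π, hπ, x, (cancel_mono (kernel.ι b)).1 (by simpa only [Category.assoc, kernel.lift_ι] using hx)⟩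
  exact fg_of_epi hX (kernel.lift b a w)

theorem pres_of_iso_cokernel {κ lam : Type} [Finite κ] [Finite lam] {V : κ → C} {U : lam → C}
    (hV : ∀ k, V k ∈ B) (hU : ∀ k, U k ∈ B) (ψ : fs O V ⟶ fs O U) {M : Mod O} (i : M ≅ cokernel ψ) :
    Pres O B M := by
  refine ⟨lam, inferInstance, U, cokernel.π ψ ≫ i.inv, epi_comp _ _, hU, ?_⟩
  have w : ψ ≫ (cokernel.π ψ ≫ i.inv) = 0 := by rw [← Category.assoc, cokernel.condition, zero_comp]
  have hex : (ShortComplex.mk ψ _ w).Exact :=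
    ShortComplex.exact_of_g_is_cokernel _ (CokernelCofork.IsColimit.ofπ' _ _ fun {A} k hk =>
      ⟨i.hom ≫ cokernel.desc ψ k hk, by simp⟩)
  exact fg_kernel_of_exact _ _ w hex (fg_fs hV)

theorem exists_presentation {M : Mod O} (h : Pres O B M) :
    ∃ (m' n' : ℕ) (V' : Fin m' → C) (U' : Fin n' → C)
      (ψ : (∐ fun j => freeOn O (V' j)) ⟶ ∐ fun i => freeOn O (U' i)),
      (∀ j, V' j ∈ B) ∧ (∀ i, U' i ∈ B) ∧ Nonempty (M ≅ cokernel ψ) := by
  obtain ⟨κ, _, U, e, _, hU, lam, _, V, d, _, hV⟩ := h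
  obtain ⟨n, ⟨a⟩⟩ := Finite.exists_equiv_fin κ
  obtain ⟨m, ⟨b⟩⟩ := Finite.exists_equiv_fin lam
  let eU : (∐ fun i => freeOn O (U (a.symm i))) ≅ fs O U := Sigma.reindex a.symm fun k => freeOn O (U k)
  let eV : (∐ fun i => freeOn O (V (b.symm i))) ≅ fs O V := Sigma.reindex b.symm fun k => freeOn O (V k)
  refine ⟨m, n, _, _, eV.hom ≫ (d ≫ kernel.ι e) ≫ eU.inv, fun j => hV _, fun i => hU _, ⟨?_⟩⟩
  have hc : IsColimit (CokernelCofork.ofπ e (kernel.condition e)) :=
    (ShortComplex.exact_of_f_is_kernel (ShortComplex.mk (kernel.ι e) e (kernel.condition e))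
      (kernelIsKernel e)).gIsCokernel
  exact (hc.coconePointUniqueUpToIso (cokernelIsCokernel (kernel.ι e))) ≪≫ (cokernelEpiComp d _).symm ≪≫
    cokernel.mapIso _ _ eV.symm eU.symm (by simp)

variable (hB₁ : Cov J B) (hB₂ : ∀ U ∈ B, ToposFin.IsQCSite J U)

include hB₁ hB₂ in
/-- The cokernel of a map to a finitely presented module from a finitely generated one. -/
theorem pres_cokernel {F G : Mod O} (hF : FG O B F) (hG : Pres O B G) (α : F ⟶ G) :
    Pres O B (cokernel α) := by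
  obtain ⟨κ, _, V, eF, _, hV⟩ := hF
  obtain ⟨lam, _, U, e, _, hU, hK⟩ := hG
  refine ⟨lam, inferInstance, U, e ≫ cokernel.π α, epi_comp _ _, hU, ?_⟩
  obtain ⟨R, l, hl⟩ := exists_lift hB₁ hB₂ hV e (eF ≫ α)
  haveI := R.epi_π (O := O)
  refine fg_of_two hK (fg_fs R.mem)
    (kernel.lift (e ≫ cokernel.π α) (kernel.ι e) (by rw [← Category.assoc, kernel.condition, zero_comp]))
    (kernel.lift (e ≫ cokernel.π α) l (by
      rw [← Category.assoc, hl, Category.assoc, Category.assoc, cokernel.condition, comp_zero, comp_zero]))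
    fun T y => ?_
  obtain ⟨T', π, _, z, hz⟩ := (ShortComplex.exact_of_g_is_cokernel
    (ShortComplex.mk α _ (cokernel.condition α)) (cokernelIsCokernel α)).exact_up_to_refinements
      (y ≫ kernel.ι _ ≫ e) (by
        show (y ≫ kernel.ι (e ≫ cokernel.π α) ≫ e) ≫ cokernel.π α = 0
        rw [Category.assoc, Category.assoc, kernel.condition, comp_zero])
  obtain ⟨T'', π', _, x, hx⟩ := surjective_up_to_refinements_of_epi (R.π ≫ eF) z
  refine ⟨T'', π' ≫ π, epi_comp _ _, kernel.lift e ((π' ≫ π) ≫ y ≫ kernel.ι _ - x ≫ l) ?_, x, ?_⟩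
  · have hz' : π ≫ y ≫ kernel.ι (e ≫ cokernel.π α) ≫ e = z ≫ α := hz
    simp [Preadditive.sub_comp, Category.assoc, hl, hz', reassoc_of% hx]
  · refine (cancel_mono (kernel.ι _)).1 ?_
    simp [Preadditive.add_comp, Category.assoc]

/-- Maps out of free modules agreeing on overlaps glue. -/
theorem exists_glue [HasPullbacks C] {U : C} {ι : Type*} {Y : ι → C} {hh : ∀ k, Y k ⟶ U}
    (hc : Sieve.ofArrows Y hh ∈ J U) {M : Mod O} (φ : ∀ k, freeOn O (Y k) ⟶ M)
    (hov : ∀ k k', freeMap (pullback.fst (hh k) (hh k')) ≫ φ k = freeMap (pullback.snd (hh k) (hh k')) ≫ φ k') :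
    ∃ ψ : freeOn O U ⟶ M, ∀ k, freeMap (hh k) ≫ ψ = φ k := by
  have hsh := (isSheaf_iff_isSheaf_of_type _ _).1
    (Presheaf.isSheaf_comp_of_isSheaf J _ (forget AddCommGrpCat.{u}) M.isSheaf)
  have hp := (Presieve.isSheafFor_iff_generate _).2 (hsh _ hc)
  obtain ⟨s, hs, -⟩ := (Presieve.isSheafFor_arrows_iff_pullbacks _ _).1 hp
    (fun k => freeOnEquiv O _ M (φ k)) fun k k' => by
      change rs M (pullback.fst (hh k) (hh k')) _ = rs M (pullback.snd (hh k) (hh k')) _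
      rw [← freeOnEquiv_freeMap, ← freeOnEquiv_freeMap, hov]
  refine ⟨(freeOnEquiv O U M).symm s, fun k => (freeOnEquiv O _ M).injective ?_⟩
  rw [freeOnEquiv_freeMap, Equiv.apply_symm_apply]
  exact hs k

theorem freeMap_comp_assoc {Z Y U : C} (a : Z ⟶ Y) (b : Y ⟶ U) {M : Mod O} (φ : freeOn O U ⟶ M) :
    freeMap a ≫ freeMap b ≫ φ = freeMap (a ≫ b) ≫ φ := by
  apply (freeOnEquiv O _ _).injective
  rw [freeOnEquiv_freeMap, freeOnEquiv_freeMap, freeOnEquiv_freeMap, ← map_val_comp]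

attribute [local irreducible] freeMap

variable [HasPullbacks C]
  (hB₃ : ∀ (U U₁ U₂ : C) (f₁ : U₁ ⟶ U) (f₂ : U₂ ⟶ U), U ∈ B → U₁ ∈ B → U₂ ∈ B →
    ToposFin.IsQCSite J (pullback f₁ f₂))

include hB₁ hB₃ in
/-- The kernel of a refinement is finitely generated. -/
theorem fg_kernel_π {κ : Type} [Finite κ] {V : κ → C} (hV : ∀ k, V k ∈ B) (R : Refn (J := J) (B := B) V) :
    FG O B (kernel (R.π (O := O))) := by
  let hh : ∀ i, ∀ k : {k // R.idx k = i}, R.V' k.1 ⟶ V i := fun i k => R.h k.1 ≫ eqToHom (congrArg V k.2)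
  let P := fun t : (Σ i, {k // R.idx k = i} × {k // R.idx k = i}) => pullback (hh t.1 t.2.1) (hh t.1 t.2.2)
  have key : ∀ t, ∃ (n : ℕ) (Y : Fin n → C) (h : ∀ k, Y k ⟶ P t), (∀ k, Y k ∈ B) ∧
      (∀ k, (⊤ : Sieve (P t)) (h k)) ∧ Sieve.ofArrows Y h ∈ J (P t) := fun t =>
    exists_refine hB₁ (hB₃ _ _ _ _ _ (hV _) (R.mem _) (R.mem _)) (J.top_mem _)
  choose n Yf h hY _ hc using key
  let e₁ : ∀ p : Σ t, Fin (n t), Yf p.1 p.2 ⟶ R.V' p.1.2.1.1 := fun p =>
    h p.1 p.2 ≫ pullback.fst (hh p.1.1 p.1.2.1) (hh p.1.1 p.1.2.2)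
  let e₂ : ∀ p : Σ t, Fin (n t), Yf p.1 p.2 ⟶ R.V' p.1.2.2.1 := fun p =>
    h p.1 p.2 ≫ pullback.snd (hh p.1.1 p.1.2.1) (hh p.1.1 p.1.2.2)
  let d : fs O (fun p : Σ t, Fin (n t) => Yf p.1 p.2) ⟶ fs O R.V' :=
    Sigma.desc (f := fun p : Σ t, Fin (n t) => freeOn O (Yf p.1 p.2)) fun p =>
      freeMap (O := O) (e₁ p) ≫ Sigma.ι (fun k => freeOn O (R.V' k)) p.1.2.1.1 -
        freeMap (O := O) (e₂ p) ≫ Sigma.ι (fun k => freeOn O (R.V' k)) p.1.2.2.1
  haveI := R.epi_π (O := O)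
  have hπ : ∀ i (k : {k // R.idx k = i}), Sigma.ι (fun k => freeOn O (R.V' k)) k.1 ≫ R.π =
      freeMap (hh i k) ≫ Sigma.ι (fun i => freeOn O (V i)) i := by
    rintro i ⟨k, rfl⟩
    simp [Refn.π, hh]
  have w : d ≫ R.π = 0 := by
    refine Sigma.hom_ext _ _ fun p => ?_
    rw [comp_zero, ← Category.assoc, Sigma.ι_desc, Preadditive.sub_comp, Category.assoc, Category.assoc,
      hπ, hπ, freeMap_comp_assoc, freeMap_comp_assoc, Category.assoc, Category.assoc, pullback.condition,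
      sub_self]
  have hcok : ∀ {M : Mod O} (φ : fs O R.V' ⟶ M), d ≫ φ = 0 → ∃ ψ, R.π ≫ ψ = φ := by
    intro M φ hφ
    have hs : ∀ i, ∃ ψ : freeOn O (V i) ⟶ M, ∀ k : {k // R.idx k = i},
        freeMap (hh i k) ≫ ψ = Sigma.ι (fun k => freeOn O (R.V' k)) k.1 ≫ φ := fun i =>
      exists_glue (R.cov i) (fun k : {k // R.idx k = i} => Sigma.ι (fun k => freeOn O (R.V' k)) k.1 ≫ φ)
        fun k k' => freeMap_jointly_epi (hc ⟨i, k, k'⟩) fun j => by
          have := congrArg (fun t => Sigma.ι (fun p : Σ t, Fin (n t) => freeOn O (Yf p.1 p.2)) ⟨⟨i, k, k'⟩, j⟩ ≫ t) hφ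
          simp only [comp_zero] at this
          rw [← Category.assoc, Sigma.ι_desc, Preadditive.sub_comp, Category.assoc, Category.assoc,
            sub_eq_zero] at this
          rw [freeMap_comp_assoc, freeMap_comp_assoc]
          exact this
    choose ψ hψ using hs
    refine ⟨Sigma.desc ψ, Sigma.hom_ext _ _ fun k => ?_⟩
    rw [← Category.assoc, hπ _ ⟨k, rfl⟩, Category.assoc, Sigma.ι_desc]
    exact hψ _ ⟨k, rfl⟩
  have hex : (ShortComplex.mk d _ w).Exact :=
    ShortComplex.exact_of_g_is_cokernel _ (CokernelCofork.IsColimit.ofπ' _ _ fun {A} φ hφ =>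
      ⟨(hcok φ hφ).choose, (hcok φ hφ).choose_spec⟩)
  have hfg : FG O B (fs O (fun p : Σ t, Fin (n t) => Yf p.1 p.2)) :=
    fg_fs (V := fun p : Σ t, Fin (n t) => Yf p.1 p.2) fun p => hY p.1 p.2
  exact fg_kernel_of_exact d (R.π (O := O)) w hex hfg

include hB₁ hB₂ hB₃ in
/-- Every finite free cover of a finitely presented module has finitely generated kernel. -/
theorem fg_kernel_of_pres {M : Mod O} (hM : Pres O B M) {κ : Type} [Finite κ] {V : κ → C}
    (hV : ∀ k, V k ∈ B) (p : fs O V ⟶ M) [Epi p] : FG O B (kernel p) := by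
  obtain ⟨lam, _, U, q, _, hU, hq⟩ := hM
  obtain ⟨S, m, hm⟩ := exists_lift hB₁ hB₂ hV q p
  obtain ⟨R, l, hl⟩ := exists_lift hB₁ hB₂ hU p q
  haveI := S.epi_π (O := O)
  haveI := R.epi_π (O := O)
  obtain ⟨S', n, hn⟩ := exists_lift hB₁ hB₂ S.mem R.π m
  haveI := S'.epi_π (O := O)
  have hd : (S'.π ≫ S.π - n ≫ l) ≫ p = 0 := by
    simp [Preadditive.sub_comp, Category.assoc, hl, ← hm, reassoc_of% hn]
  let K := kernel (R.π ≫ q)
  have hK : FG O B K := by
    let g : K ⟶ kernel q := kernel.lift q (kernel.ι _ ≫ R.π) (by rw [Category.assoc, kernel.condition])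
    let f : kernel (R.π (O := O)) ⟶ K :=
      kernel.lift _ (kernel.ι _) (by rw [← Category.assoc, kernel.condition, zero_comp])
    have w : f ≫ g = 0 := (cancel_mono (kernel.ι q)).1 (by simp [f, g])
    haveI : Epi g := by
      rw [epi_iff_surjective_up_to_refinements]
      intro A y
      obtain ⟨A', π, hπ, x, hx⟩ := surjective_up_to_refinements_of_epi R.π (y ≫ kernel.ι q)
      exact ⟨A', π, hπ, kernel.lift _ x (by rw [← Category.assoc, ← hx]; simp),
        (cancel_mono (kernel.ι q)).1 (by simpa [g] using hx)⟩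
    have hex : (ShortComplex.mk f g w).Exact := by
      refine ShortComplex.exact_of_f_is_kernel _ (KernelFork.IsLimit.ofι' _ _ fun {A} k hk => ?_)
      have hk' : (k ≫ kernel.ι (R.π ≫ q)) ≫ R.π = 0 := by
        have := congrArg (fun t => t ≫ kernel.ι q) hk
        simpa [g] using this
      exact ⟨kernel.lift R.π (k ≫ kernel.ι _) hk', (cancel_mono (kernel.ι _)).1 (by simp [f])⟩
    exact fg_extension hB₁ hB₂ f g w hex (fg_kernel_π hB₁ hB₃ hU R) hq
  refine fg_of_two (fg_fs S'.mem) hK (kernel.lift p (S'.π ≫ S.π - n ≫ l) hd)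
    (kernel.lift p (kernel.ι _ ≫ l) (by rw [Category.assoc, hl, kernel.condition])) fun T y => ?_
  obtain ⟨T', π, _, x, hx⟩ := surjective_up_to_refinements_of_epi (S'.π ≫ S.π) (y ≫ kernel.ι p)
  refine ⟨T', π, inferInstance, x, kernel.lift _ (x ≫ n) ?_, (cancel_mono (kernel.ι p)).1 ?_⟩
  · have : x ≫ S'.π ≫ S.π ≫ p = 0 := by
      have := congrArg (fun t => t ≫ p) hx
      simpa using this.symm
    rw [Category.assoc, ← Category.assoc n R.π q, hn, Category.assoc, hm]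
    exact this
  · simp [Preadditive.add_comp, Preadditive.comp_sub, Category.assoc, ← hx]

end Groth.Agent.QcSum
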