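import Groth.Agent.QcSum.Pres2

/-!
# Extensions and kernels of finitely presented modules
-/

set_option autoImplicit false
set_option linter.style.haveILetI false

universe u

open CategoryTheory CategoryTheory.Limits Opposite ModSite

namespace Groth.Agent.QcSum

variable {C : Type u} [SmallCategory C] {J : GrothendieckTopology C} {O : Sheaf J CommRingCat.{u}}
  {B : Set C} (hB₁ : Cov J B) (hB₂ : ∀ U ∈ B, ToposFin.IsQCSite J U)

section Two

variable {κ lam : Type} (V : κ → C) (W : lam → C) {M : Mod O}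

/-- The left inclusion. -/
noncomputable def inlS : fs O V ⟶ fs O (Sum.elim V W) :=
  Sigma.desc fun k => Sigma.ι (fun s => freeOn O (Sum.elim V W s)) (Sum.inl k)

/-- The right inclusion. -/
noncomputable def inrS : fs O W ⟶ fs O (Sum.elim V W) :=
  Sigma.desc fun k => Sigma.ι (fun s => freeOn O (Sum.elim V W s)) (Sum.inr k)

/-- Maps out of a sum. -/
noncomputable def descS (f : fs O V ⟶ M) (g : fs O W ⟶ M) : fs O (Sum.elim V W) ⟶ M :=
  Sigma.desc (f := fun s => freeOn O (Sum.elim V W s)) fun s =>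
    Sum.rec (motive := fun s => freeOn O (Sum.elim V W s) ⟶ M)
      (fun k => Sigma.ι (fun k => freeOn O (V k)) k ≫ f) (fun k => Sigma.ι (fun k => freeOn O (W k)) k ≫ g) s

@[reassoc (attr := simp)]
theorem inlS_descS (f : fs O V ⟶ M) (g : fs O W ⟶ M) : inlS V W ≫ descS V W f g = f :=
  Sigma.hom_ext _ _ fun k => by
    rw [inlS, ← Category.assoc, Sigma.ι_desc]
    exact Sigma.ι_desc (f := fun s => freeOn O (Sum.elim V W s)) _ (Sum.inl k)

@[reassoc (attr := simp)]
theorem inrS_descS (f : fs O V ⟶ M) (g : fs O W ⟶ M) : inrS V W ≫ descS V W f g = g :=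
  Sigma.hom_ext _ _ fun k => by
    rw [inrS, ← Category.assoc, Sigma.ι_desc]
    exact Sigma.ι_desc (f := fun s => freeOn O (Sum.elim V W s)) _ (Sum.inr k)

theorem hom_extS {f g : fs O (Sum.elim V W) ⟶ M} (h₁ : inlS V W ≫ f = inlS V W ≫ g)
    (h₂ : inrS V W ≫ f = inrS V W ≫ g) : f = g :=
  Sigma.hom_ext _ _ fun s => by
    rcases s with k | k
    · have := congrArg (fun t => Sigma.ι (fun k => freeOn O (V k)) k ≫ t) h₁
      simp only [inlS, ← Category.assoc, Sigma.ι_desc] at this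
      exact this
    · have := congrArg (fun t => Sigma.ι (fun k => freeOn O (W k)) k ≫ t) h₂
      simp only [inrS, ← Category.assoc, Sigma.ι_desc] at this
      exact this

theorem descS_add (f f' : fs O V ⟶ M) (g g' : fs O W ⟶ M) :
    descS V W f g + descS V W f' g' = descS V W (f + f') (g + g') :=
  hom_extS V W (by simp [Preadditive.comp_add]) (by simp [Preadditive.comp_add])

end Two

include hB₁ hB₂ in
/-- Kernels, given that kernels of maps of finite free modules are finitely presented. -/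
theorem pres_kernel
    (hker : ∀ {κ lam : Type} [Finite κ] [Finite lam] (V : κ → C) (U : lam → C) (φ : fs O V ⟶ fs O U),
      (∀ k, V k ∈ B) → (∀ k, U k ∈ B) → FG O B (kernel φ))
    {F G : Mod O} (hF : Pres O B F) (hG : Pres O B G) (α : F ⟶ G) : Pres O B (kernel α) := by
  have hfg : ∀ {M : Mod O}, Pres O B M → ∀ {κ : Type} [Finite κ] {V : κ → C} (_ : ∀ k, V k ∈ B)
      (f : fs O V ⟶ M), FG O B (kernel f) := by
    intro M hM κ _ V hV f
    obtain ⟨lam, _, U, q, _, hU, μ, _, W, r, _, hW⟩ := hM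
    obtain ⟨R, m, hm⟩ := exists_lift hB₁ hB₂ hV q f
    haveI := R.epi_π (O := O)
    let φ := descS R.V' W m (r ≫ kernel.ι q)
    let pr := descS (M := fs O R.V') R.V' W (𝟙 _) 0
    let inl := inlS (O := O) R.V' W
    let inr := inrS (O := O) R.V' W
    have h1 : inl ≫ φ = m := inlS_descS ..
    have h2 : inr ≫ φ = r ≫ kernel.ι q := inrS_descS ..
    have h3 : inl ≫ pr = 𝟙 _ := inlS_descS ..
    have h4 : inr ≫ pr = 0 := inrS_descS ..
    have h5 : φ ≫ q = pr ≫ R.π ≫ f :=
      hom_extS _ _ (by simp [φ, pr, hm]) (by simp [φ, pr, kernel.condition])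
    have hk := hker _ _ φ (fun k => by cases k <;> simp [R.mem, hW]) hU
    have hw : (kernel.ι φ ≫ pr ≫ R.π) ≫ f = 0 := by
      rw [Category.assoc, Category.assoc, ← h5, ← Category.assoc, kernel.condition, zero_comp]
    haveI : Epi (kernel.lift f _ hw) := by
      rw [epi_iff_surjective_up_to_refinements]
      intro A y
      obtain ⟨A', π, _, x, hx⟩ := surjective_up_to_refinements_of_epi R.π (y ≫ kernel.ι f)
      have hxm : (x ≫ m) ≫ q = 0 := by
        have := congrArg (fun t => t ≫ f) hx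
        simp only [Category.assoc, kernel.condition, comp_zero] at this
        rw [Category.assoc, hm]
        exact this.symm
      obtain ⟨A'', π', _, z, hz⟩ := surjective_up_to_refinements_of_epi r (kernel.lift q (x ≫ m) hxm)
      have hz' : π' ≫ x ≫ m = z ≫ r ≫ kernel.ι q := by
        have := congrArg (fun t => t ≫ kernel.ι q) hz
        simpa using this
      refine ⟨A'', π' ≫ π, epi_comp _ _, kernel.lift φ (π' ≫ x ≫ inl - z ≫ inr) ?_,
        (cancel_mono (kernel.ι f)).1 ?_⟩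
      · simp [Preadditive.sub_comp, Category.assoc, h1, h2, hz']
      · simp [Preadditive.sub_comp, Category.assoc, reassoc_of% h3, reassoc_of% h4, hx]
    exact fg_of_epi hk (kernel.lift f _ hw)
  obtain ⟨κ, _, V, p, _, hV, -⟩ := id hF
  have hK₀ := hfg hG hV (p ≫ α)
  let g : kernel (p ≫ α) ⟶ kernel α :=
    kernel.lift α (kernel.ι _ ≫ p) (by rw [Category.assoc, kernel.condition])
  haveI : Epi g := by
    rw [epi_iff_surjective_up_to_refinements]
    intro A y
    obtain ⟨A', π, _, x, hx⟩ := surjective_up_to_refinements_of_epi p (y ≫ kernel.ι α)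
    have hxα : x ≫ p ≫ α = 0 := by
      have := congrArg (fun t => t ≫ α) hx
      simpa using this.symm
    exact ⟨A', π, inferInstance, kernel.lift _ x hxα, (cancel_mono (kernel.ι α)).1 (by simpa [g] using hx)⟩
  obtain ⟨lam, _, S, e, _, hS⟩ := fg_of_epi hK₀ g
  refine ⟨lam, inferInstance, S, e, inferInstance, hS, ?_⟩
  have hk' := hfg hF hS (e ≫ kernel.ι α)
  exact fg_of_epi hk' (kernelCompMono e (kernel.ι α)).hom

variable [HasPullbacks C]
  (hB₃ : ∀ (U U₁ U₂ : C) (f₁ : U₁ ⟶ U) (f₂ : U₂ ⟶ U), U ∈ B → U₁ ∈ B → U₂ ∈ B →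
    ToposFin.IsQCSite J (pullback f₁ f₂))

include hB₁ hB₂ hB₃ in
/-- Extensions of finitely presented modules are finitely presented. -/
theorem pres_extension (S : ShortComplex (Mod O)) (hS : S.ShortExact) (h₁ : Pres O B S.X₁) (h₃ : Pres O B S.X₃) :
    Pres O B S.X₂ := by
  haveI := hS.mono_f
  haveI := hS.epi_g
  obtain ⟨κ₁, _, V₁, p₁, _, hV₁, hK₁⟩ := h₁
  obtain ⟨κ₃, _, V₃, p₃, _, hV₃, -⟩ := id h₃
  obtain ⟨R, l, hl⟩ := exists_lift hB₁ hB₂ hV₃ S.g p₃
  haveI := R.epi_π (O := O)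
  have hK₃ : FG O B (kernel (R.π ≫ p₃)) := fg_kernel_of_pres hB₁ hB₂ hB₃ h₃ R.mem (R.π ≫ p₃)
  let p := descS V₁ R.V' (p₁ ≫ S.f) l
  let pr := descS (M := fs O R.V') V₁ R.V' 0 (𝟙 _)
  let inl := inlS (O := O) V₁ R.V'
  let inr := inrS (O := O) V₁ R.V'
  have h1 : inl ≫ p = p₁ ≫ S.f := inlS_descS ..
  have h2 : inr ≫ p = l := inrS_descS ..
  have h3 : p ≫ S.g = pr ≫ R.π ≫ p₃ := hom_extS _ _ (by simp [p, pr]) (by simp [p, pr, hl])
  have h4 : inr ≫ pr = 𝟙 _ := inrS_descS ..
  have h5 : inl ≫ pr = 0 := inlS_descS ..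
  haveI : Epi p := by
    rw [epi_iff_surjective_up_to_refinements]
    intro A y
    obtain ⟨A', π, _, x, hx⟩ := surjective_up_to_refinements_of_epi (R.π ≫ p₃) (y ≫ S.g)
    obtain ⟨A'', π', _, a, ha⟩ := hS.exact.exact_up_to_refinements (π ≫ y - x ≫ l)
      (by simp [Preadditive.sub_comp, Category.assoc, hl, hx])
    obtain ⟨A''', π'', _, b, hb⟩ := surjective_up_to_refinements_of_epi p₁ a
    refine ⟨A''', π'' ≫ π' ≫ π, inferInstance, b ≫ inl + π'' ≫ π' ≫ x ≫ inr, ?_⟩
    have ha' : π' ≫ (π ≫ y - x ≫ l) = a ≫ S.f := ha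
    simp only [Preadditive.add_comp, Category.assoc, h1, h2, ← reassoc_of% hb, ← ha',
      Preadditive.comp_sub, sub_add_cancel]
  let pr₁ := descS (M := fs O V₁) V₁ R.V' (𝟙 _) 0
  have h6 : pr₁ ≫ inl + pr ≫ inr = 𝟙 _ :=
    hom_extS _ _ (by simp [pr, pr₁, inl, inr, Preadditive.comp_add])
      (by simp [pr, pr₁, inl, inr, Preadditive.comp_add])
  refine ⟨κ₁ ⊕ R.κ', inferInstance, Sum.elim V₁ R.V', p, inferInstance,
    fun k => by cases k <;> simp [hV₁, R.mem], ?_⟩
  let f : kernel p₁ ⟶ kernel p := kernel.lift p (kernel.ι p₁ ≫ inl)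
    (by rw [Category.assoc, h1, ← Category.assoc, kernel.condition, zero_comp])
  let g : kernel p ⟶ kernel (R.π ≫ p₃) := kernel.lift _ (kernel.ι p ≫ pr)
    (by rw [Category.assoc, ← h3, ← Category.assoc, kernel.condition, zero_comp])
  have w : f ≫ g = 0 := (cancel_mono (kernel.ι _)).1 (by simp [f, g, h5])
  haveI : Epi g := by
    rw [epi_iff_surjective_up_to_refinements]
    intro A x
    obtain ⟨A', π, _, a, ha⟩ := hS.exact.exact_up_to_refinements (x ≫ kernel.ι _ ≫ l)
      (by simp [Category.assoc, hl])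
    obtain ⟨A'', π', _, b, hb⟩ := surjective_up_to_refinements_of_epi p₁ a
    have ha' : π ≫ x ≫ kernel.ι (R.π ≫ p₃) ≫ l = a ≫ S.f := by simpa using ha
    refine ⟨A'', π' ≫ π, inferInstance,
      kernel.lift p ((π' ≫ π) ≫ x ≫ kernel.ι _ ≫ inr - b ≫ inl) ?_, (cancel_mono (kernel.ι _)).1 ?_⟩
    · simp [Preadditive.sub_comp, Category.assoc, h1, h2, ha', reassoc_of% hb]
    · simp [g, Preadditive.sub_comp, Category.assoc, h4, h5]
  refine fg_extension hB₁ hB₂ f g w ?_ hK₁ hK₃
  refine (ShortComplex.exact_iff_exact_up_to_refinements _).2 fun A k hk => ?_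
  have hk' : (k ≫ kernel.ι p) ≫ pr = 0 := by
    have := congrArg (fun t => t ≫ kernel.ι (R.π ≫ p₃)) hk
    simpa [g] using this
  have he : ((k ≫ kernel.ι p) ≫ pr₁) ≫ inl = k ≫ kernel.ι p := by
    conv_rhs => rw [← Category.comp_id (k ≫ kernel.ι p), ← h6, Preadditive.comp_add,
      ← Category.assoc (k ≫ kernel.ι p) pr inr, hk', zero_comp, add_zero]
    exact Category.assoc _ _ _
  have hp₁ : ((k ≫ kernel.ι p) ≫ pr₁) ≫ p₁ = 0 := (cancel_mono S.f).1 (by
    rw [zero_comp, Category.assoc, ← h1, ← Category.assoc, he, Category.assoc, kernel.condition, comp_zero])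
  exact ⟨A, 𝟙 A, inferInstance, kernel.lift p₁ _ hp₁, (cancel_mono (kernel.ι p)).1 (by
    show (𝟙 A ≫ k) ≫ kernel.ι p = (kernel.lift p₁ _ hp₁ ≫ f) ≫ kernel.ι p
    simp only [f, Category.assoc, kernel.lift_ι, kernel.lift_ι_assoc, Category.id_comp]
    simpa [Category.assoc] using he.symm)⟩

end Groth.Agent.QcSum
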